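import Mathlib

/-!
# Finitely many conditions modulo powers of the maximal ideals
-/

set_option autoImplicit false
universe u

open IsLocalRing

namespace Groth.Agent.ProperFlatLib

/-- Quotients by powers of the maximal ideal are Artinian. -/
theorem isArtinianRing_quotient_pow {A : Type u} [CommRing A] [IsLocalRing A] [IsNoetherianRing A] (n : ℕ) :
    IsArtinianRing (A ⧸ maximalIdeal A ^ n) := by
  rcases eq_or_ne (maximalIdeal A ^ n) ⊤ with h | h
  · haveI : Subsingleton (A ⧸ maximalIdeal A ^ n) := Ideal.Quotient.subsingleton_iff.2 h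
    infer_instance
  haveI : Nontrivial (A ⧸ maximalIdeal A ^ n) := Ideal.Quotient.nontrivial_iff.2 h
  haveI : IsLocalRing (A ⧸ maximalIdeal A ^ n) :=
    IsLocalRing.of_surjective' (Ideal.Quotient.mk _) Ideal.Quotient.mk_surjective
  rw [isArtinianRing_iff_isNilpotent_maximalIdeal]
  refine ⟨n, ?_⟩
  rw [← map_maximalIdeal_of_surjective _ Ideal.Quotient.mk_surjective, ← Ideal.map_pow, Ideal.map_quotient_self]
  rfl

/-- An element in every neighbourhood of an ideal of a Noetherian local ring belongs to it. -/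
theorem mem_of_forall_mem_sup_pow {B : Type u} [CommRing B] [IsLocalRing B] [IsNoetherianRing B] {I : Ideal B}
    {b : B} (h : ∀ k : ℕ, b ∈ I ⊔ maximalIdeal B ^ k) : b ∈ I := by
  have hb : Submodule.mkQ I b ∈ (⨅ k : ℕ, maximalIdeal B ^ k • ⊤ : Submodule B (B ⧸ I)) := by
    refine (Submodule.mem_iInf _).2 fun k => ?_
    obtain ⟨i, hi, m, hm, rfl⟩ := Submodule.mem_sup.1 (h k)
    rw [map_add, show Submodule.mkQ I i = 0 from (Submodule.Quotient.mk_eq_zero I).2 hi, zero_add,
      show Submodule.mkQ I m = m • Submodule.mkQ I (1 : B) by rw [← map_smul, smul_eq_mul, mul_one]]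
    exact Submodule.smul_mem_smul hm trivial
  rw [Ideal.iInf_pow_smul_eq_bot_of_isLocalRing (maximalIdeal B) (maximalIdeal.isMaximal B).ne_top] at hb
  exact (Submodule.Quotient.mk_eq_zero I).1 hb

/-- Finitely many conditions modulo powers of maximal ideals cut out the elements lying everywhere in the
extension of a power of the maximal ideal. -/
theorem exists_finset {A : Type u} [CommRing A] [IsLocalRing A] [IsNoetherianRing A] {ι : Type u}
    (B : ι → Type u) [∀ i, CommRing (B i)] [∀ i, IsLocalRing (B i)] [∀ i, IsNoetherianRing (B i)]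
    (φ : ∀ i, A →+* B i) (n : ℕ) :
    ∃ s : Finset (ι × ℕ), ∀ b : A, b ∈ ⨅ p ∈ s, Ideal.comap (φ p.1) (maximalIdeal (B p.1) ^ p.2) →
      ∀ i, φ i b ∈ (maximalIdeal A ^ n).map (φ i) := by
  classical
  let q := Ideal.Quotient.mk (maximalIdeal A ^ n)
  let J : Finset (ι × ℕ) → Ideal A := fun s => ⨅ p ∈ s, Ideal.comap (φ p.1) (maximalIdeal (B p.1) ^ p.2)
  haveI := isArtinianRing_quotient_pow (A := A) n
  obtain ⟨_, ⟨s, rfl⟩, hmin⟩ := IsArtinian.set_has_minimal (R := A ⧸ maximalIdeal A ^ n) (M := A ⧸ maximalIdeal A ^ n)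
    (Set.range fun s => (J s).map q) ⟨_, ∅, rfl⟩
  refine ⟨s, fun b hb i => mem_of_forall_mem_sup_pow fun k => ?_⟩
  have hle : J (insert (i, k) s) ≤ J s := le_iInf₂ fun p hp => iInf₂_le p (Finset.mem_insert_of_mem hp)
  have heq : (J (insert (i, k) s)).map q = (J s).map q :=
    (eq_or_lt_of_le (Ideal.map_mono hle)).resolve_right (hmin _ ⟨_, rfl⟩)
  have hqb : q b ∈ (J (insert (i, k) s)).map q := heq ▸ Ideal.mem_map_of_mem q hb
  obtain ⟨b', hb', he⟩ := (Ideal.mem_map_iff_of_surjective q Ideal.Quotient.mk_surjective).1 hqb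
  have hm : b - b' ∈ maximalIdeal A ^ n := (Ideal.Quotient.mk_eq_mk_iff_sub_mem b b').1 he.symm
  have hb'' : φ i b' ∈ maximalIdeal (B i) ^ k :=
    (iInf₂_le (i, k) (Finset.mem_insert_self _ s) : J (insert (i, k) s) ≤ _) hb'
  exact Submodule.mem_sup.2 ⟨φ i (b - b'), Ideal.mem_map_of_mem _ hm, φ i b', hb'',
    by rw [← map_add, sub_add_cancel]⟩

end Groth.Agent.ProperFlatLib
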