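import Groth.Agent.ProperFlatLib.Noeth
import Groth.Agent.RichLib.FlatNoethDescent
import Groth.Agent.ConsLib.PairProper

/-!
# Descent of flatness along an injective proper morphism, over a local ring
-/

set_option autoImplicit false
set_option backward.isDefEq.respectTransparency false
set_option backward.isDefEq.respectTransparency.types false
set_option maxHeartbeats 1000000
universe u

open CategoryTheory CategoryTheory.Limits AlgebraicGeometry TopologicalSpace RichLib.LimBC ConsLib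

noncomputable section

namespace Groth.Agent.ProperFlatLib

attribute [local instance] ConsLib.zAlgebra

section Squares

variable {X₀ Y₀ S₀ T : Scheme.{u}} (fj : X₀ ⟶ S₀) (gj : Y₀ ⟶ S₀) (t : T ⟶ S₀)

/-- The fibre product of the base changes, seen in the first factor. -/
def bcFst : pullback (pullback.snd fj gj) (pullback.fst gj t) ⟶ pullback fj t :=
  pullback.lift (pullback.fst _ _ ≫ pullback.fst fj gj) (pullback.snd _ _ ≫ pullback.snd gj t)
    (by rw [Category.assoc, pullback.condition, ← Category.assoc, pullback.condition, Category.assoc,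
      pullback.condition, Category.assoc])

theorem bcFst_fst : bcFst fj gj t ≫ pullback.fst fj t =
    pullback.fst (pullback.snd fj gj) (pullback.fst gj t) ≫ pullback.fst fj gj := pullback.lift_fst _ _ _

theorem bcFst_snd : bcFst fj gj t ≫ pullback.snd fj t =
    pullback.snd (pullback.snd fj gj) (pullback.fst gj t) ≫ pullback.snd gj t := pullback.lift_snd _ _ _

/-- Fibre products commute with base change. -/
theorem isPullback_bcFst : IsPullback (bcFst fj gj t) (pullback.snd (pullback.snd fj gj) (pullback.fst gj t))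
    (pullback.snd fj t) (pullback.snd gj t) := by
  have h1 := ((IsPullback.of_hasPullback (pullback.snd fj gj) (pullback.fst gj t)).paste_horiz
    (IsPullback.of_hasPullback fj gj))
  rw [← bcFst_fst, pullback.condition] at h1
  exact IsPullback.of_right h1 (bcFst_snd fj gj t) (IsPullback.of_hasPullback fj t)

theorem isFlatOverAt_of_iso {P Q S : Scheme.{u}} {f : P ⟶ S} {g : Q ⟶ S} (e : P ≅ Q) (he : e.hom ≫ g = f)
    {M : P.Modules} {N : Q.Modules} (eM : M ≅ (Scheme.Modules.pullback e.hom).obj N) (z : P) :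
    FlatMod.IsFlatOverAt f M z ↔ FlatMod.IsFlatOverAt g N (e.hom z) :=
  RichLib.ModFlat.isFlatOverAt_congr e.hom (𝟙 _) ((Category.comp_id _).trans he.symm) eM z

end Squares

/-- Pullbacks along equal composites. -/
def pbIso {P Q R : Scheme.{u}} {a : P ⟶ Q} {b : Q ⟶ R} {c : P ⟶ R} (h : a ≫ b = c) (M : R.Modules) :
    (Scheme.Modules.pullback a).obj ((Scheme.Modules.pullback b).obj M) ≅ (Scheme.Modules.pullback c).obj M :=
  (Scheme.Modules.pullbackComp a b).app M ≪≫ (Scheme.Modules.pullbackCongr h).app M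

section System

variable {I : Type u} [SmallCategory I] [IsCofiltered I] {S₀ X₀ Y₀ : Scheme.{u}} [IsNoetherian S₀]
  (Z : RichLib.LimBC.Sys I S₀) (fj : X₀ ⟶ S₀) [LocallyOfFinitePresentation fj]
  (gj : Y₀ ⟶ S₀) [LocallyOfFiniteType gj] [QuasiCompact gj] [QuasiSeparated gj]
  (G : X₀.Modules) [Coh.IsQCoh G]

/-- The flat locus of a fibre product along a proper morphism contains a fibre at some stage. -/
theorem exists_stage (hG : CohB1.IsFP G) [IsProper (pullback.snd gj Z.s)] (xL : ↥(pullback fj Z.s))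
    (h : ∀ z : ↥(pullback (pullback.snd fj gj) (pullback.fst gj Z.s)), bcFst fj gj Z.s z = xL →
      FlatMod.IsFlatOverAt (pullback.snd (pullback.snd fj gj) (pullback.fst gj Z.s))
        ((Scheme.Modules.pullback (pullback.fst (pullback.snd fj gj) (pullback.fst gj Z.s))).obj
          ((Scheme.Modules.pullback (pullback.fst fj gj)).obj G)) z) :
    ∃ ψ, IsProper (pullback.snd gj (Z.t ψ)) ∧
      ∀ z : ↥(pullback (pullback.snd fj gj) (pullback.fst gj (Z.t ψ))),
        bcFst fj gj (Z.t ψ) z = pbπ Z fj ψ xL →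
        FlatMod.IsFlatOverAt (pullback.snd (pullback.snd fj gj) (pullback.fst gj (Z.t ψ)))
          ((Scheme.Modules.pullback (pullback.fst (pullback.snd fj gj) (pullback.fst gj (Z.t ψ)))).obj
            ((Scheme.Modules.pullback (pullback.fst fj gj)).obj G)) z := by
  classical
  let h₀ := pullback.snd fj gj
  let M₀ := (Scheme.Modules.pullback (pullback.fst fj gj)).obj G
  haveI : LocallyOfFinitePresentation h₀ := MorphismProperty.pullback_snd _ _ ‹_›
  haveI : Coh.IsQCoh M₀ := KFlatLib.isQCoh_pullback _ G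
  have hM₀ : CohB1.IsFP M₀ := RichLib.ModFlat.isFP_pullback _ hG
  let C := pb Z gj
  obtain ⟨ψ₀, hψ₀⟩ := ConsLib.exists_at_isProper Z gj ‹IsProper (pullback.snd gj Z.s)›
  let V : I → Set ↥(pullback h₀ C.s) := fun ψ => (pbπ C h₀ ψ) ⁻¹' {w | FlatMod.IsFlatOverAt
    (pullback.snd h₀ (C.t ψ)) ((Scheme.Modules.pullback (pullback.fst h₀ (C.t ψ))).obj M₀) w}
  have hV : ∀ ψ, IsOpen (V ψ) := fun ψ => by
    haveI : LocallyOfFinitePresentation (pullback.snd h₀ (C.t ψ)) := MorphismProperty.pullback_snd _ _ ‹_›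
    haveI := KFlatLib.isQCoh_pullback (pullback.fst h₀ (C.t ψ)) M₀
    exact (RichLib.FlatLoci.isOpen_setOf_isFlatOverAt _ _ (RichLib.ModFlat.isFP_pullback _ hM₀)).preimage (pbπ C h₀ ψ).continuous
  have hmono : ∀ {ψ ψ' : I} (a : ψ' ⟶ ψ), V ψ ⊆ V ψ' := fun {ψ ψ'} a z hz => by
    have hz' : FlatMod.IsFlatOverAt (pullback.snd h₀ (C.t ψ))
        ((Scheme.Modules.pullback (pullback.fst h₀ (C.t ψ))).obj M₀) (pbMap C h₀ a (pbπ C h₀ ψ' z)) := by
      rw [← Scheme.Hom.comp_apply, pbπ_map]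
      exact hz
    exact (RichLib.ModFlat.isFlatOverAt_iso _ (pbIso (pbMap_fst C h₀ a) M₀) _).1
      (FDescTensLib.isFlatOverAt_baseChange (isPullback_map C h₀ a) _ _ hz')
  have hcov : (bcFst fj gj Z.s) ⁻¹' {xL} ⊆ ⋃ ψ, V ψ := fun z hz => by
    obtain ⟨ψ, hψ⟩ := (RichLib.ModFlat.isFlatOverAt_iff_exists_stage C h₀ M₀ hM₀ z).1 (h z hz)
    exact Set.mem_iUnion.2 ⟨ψ, hψ⟩
  haveI : QuasiCompact (bcFst fj gj Z.s) :=
    MorphismProperty.of_isPullback (isPullback_bcFst fj gj Z.s).flip inferInstance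
  obtain ⟨J, hJ⟩ := ((bcFst fj gj Z.s).isCompact_preimage_singleton xL).elim_finite_subcover V hV hcov
  obtain ⟨ψ, hψ⟩ := IsCofiltered.inf_objs_exists (insert ψ₀ J)
  refine ⟨ψ, at_of_hom Z gj (hψ (Finset.mem_insert_self ψ₀ J)).some hψ₀, fun w hw => ?_⟩
  have hsq : IsPullback (pbπ C h₀ ψ) (bcFst fj gj Z.s) (bcFst fj gj (Z.t ψ)) (pbπ Z fj ψ) := by
    have e1 : pbπ C h₀ ψ ≫ pullback.snd h₀ (C.t ψ) = pullback.snd h₀ C.s ≫ pbπ Z gj ψ := pbπ_snd C h₀ ψ
    have e2 : pbπ Z fj ψ ≫ pullback.snd fj (Z.t ψ) = pullback.snd fj Z.s ≫ Z.c.π.app ψ := pbπ_snd Z fj ψ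
    have a := (isPullback_bcFst fj gj Z.s).flip.paste_horiz (isPullback_cone Z gj ψ)
    have key : ∀ {t : pullback h₀ C.s ⟶ pullback gj (Z.t ψ)} {b : pullback fj Z.s ⟶ Z.D.obj ψ},
        t = pullback.snd h₀ C.s ≫ pbπ Z gj ψ → b = pullback.snd fj Z.s ≫ Z.c.π.app ψ →
        IsPullback t (bcFst fj gj Z.s) (pullback.snd gj (Z.t ψ)) b := by
      rintro _ _ rfl rfl
      exact a
    refine IsPullback.of_right (h₁₁ := pbπ C h₀ ψ) (key e1 e2) ?_ (isPullback_bcFst fj gj (Z.t ψ)).flip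
    refine pullback.hom_ext ?_ ?_
    · refine ((Category.assoc _ _ _).trans (congrArg (pbπ C h₀ ψ ≫ ·) (bcFst_fst fj gj (Z.t ψ)))).trans ?_
      refine ((Category.assoc _ _ _).symm.trans (congrArg (· ≫ pullback.fst fj gj) (pbπ_fst C h₀ ψ))).trans ?_
      exact ((Category.assoc _ _ _).trans ((congrArg (bcFst fj gj Z.s ≫ ·) (pbπ_fst Z fj ψ)).trans
        (bcFst_fst fj gj Z.s))).symm
    · refine ((Category.assoc _ _ _).trans (congrArg (pbπ C h₀ ψ ≫ ·) (bcFst_snd fj gj (Z.t ψ)))).trans ?_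
      refine ((Category.assoc _ _ _).symm.trans (congrArg (· ≫ pullback.snd gj (Z.t ψ)) e1)).trans ?_
      refine ((Category.assoc _ _ _).trans (congrArg (pullback.snd h₀ C.s ≫ ·) (pbπ_snd Z gj ψ))).trans ?_
      exact ((Category.assoc _ _ _).trans ((congrArg (bcFst fj gj Z.s ≫ ·) e2).trans
        ((Category.assoc _ _ _).symm.trans ((congrArg (· ≫ Z.c.π.app ψ) (bcFst_snd fj gj Z.s)).trans
          (Category.assoc _ _ _))))).symm
  obtain ⟨z', hz1, hz2⟩ := Scheme.Pullback.exists_preimage_pullback w xL (f := bcFst fj gj (Z.t ψ))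
    (g := pbπ Z fj ψ) hw
  let z := hsq.isoPullback.inv z'
  have h1 : pbπ C h₀ ψ z = w := by
    exact congr($(hsq.isoPullback_inv_fst) z').trans hz1
  have h2 : bcFst fj gj Z.s z = xL := by
    exact congr($(hsq.isoPullback_inv_snd) z').trans hz2
  obtain ⟨i, hi, hzi⟩ := Set.mem_iUnion₂.1 (hJ h2)
  have h3 := hmono (hψ (Finset.mem_insert_of_mem hi)).some hzi
  rw [← h1]
  exact h3

end System

/-- **Descent of flatness along an injective proper morphism, over any ring.** -/
theorem flat_of_injective {A : Type u} [CommRing A] {X Y : Scheme.{u}}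
    (f : X ⟶ Spec (CommRingCat.of A)) [LocallyOfFinitePresentation f] [QuasiCompact f] [QuasiSeparated f]
    (F : X.Modules) [Coh.IsQCoh F] (hF : CohB1.IsFP F) (x : X)
    (g : Y ⟶ Spec (CommRingCat.of A)) [IsProper g] [LocallyOfFinitePresentation g]
    (hinj : ∀ a : A, Coh.toGlobal g a = 0 → a = 0)
    (hflat : ∀ z : ↥(pullback f g), pullback.fst f g z = x →
      FlatMod.IsFlatOverAt (pullback.snd f g) ((Scheme.Modules.pullback (pullback.fst f g)).obj F) z) :
    FlatMod.IsFlatOverAt f F x := by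
  let A' := zSys A
  haveI : ∀ i j (a : i ⟶ j), IsAffineHom (A'.D.map a) := fun _ _ a => A'.affine_map a
  haveI : ∀ i, IsNoetherian (A'.D.obj i) := fun i => zSys_obj _ i
  let e : Spec (CommRingCat.of A) ≅ A'.c.pt := (zSysIso _).symm
  obtain ⟨i₁, ⟨N₁⟩⟩ := DescFP.exists_model A'.hc (f ≫ e.hom)
  obtain ⟨i₂, ⟨N₂⟩⟩ := DescFP.exists_model A'.hc (g ≫ e.hom)
  obtain ⟨i, a₁, a₂, -⟩ := IsCofilteredOrEmpty.cone_objs i₁ i₂
  let N := N₁.push a₁
  haveI := N.lfp
  haveI := N.qc
  haveI := N.compactSpace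
  haveI := N.quasiSeparatedSpace
  let B := pb (ofStage A'.D A'.c A'.hc i) N.p
  haveI : ∀ k l (b : k ⟶ l), IsAffineHom (B.D.map b) := fun _ _ b => B.affine_map b
  haveI hlft : LocallyOfFiniteType N.p := inferInstance
  haveI : ∀ φ : Over i, IsNoetherian (B.D.obj φ) := fun φ =>
    @ConsLib.isNoetherian_of_ft _ _ (pullback.snd N.p (A'.D.map φ.hom)) (zSys_obj _ φ.left)
      (MorphismProperty.pullback_snd _ _ hlft) (MorphismProperty.pullback_snd _ _ N.qc)
  let eY := N.sq.isoPullback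
  let c' : Cone B.D := B.c.extend eY.hom
  have hc' : IsLimit c' := B.hc.ofIsoLimit (Cone.ext eY.symm (fun φ => by
    simp [c', Cone.extend]))
  obtain ⟨φ, G, hG, ⟨eG⟩⟩ := ModDescLib.exists_coh_pullback (c := c') hc' F
    fun y => FlatLib.exists_presentation_nhd hF y
  haveI : Coh.IsQCoh G := hG.1
  have hGfp : CohB1.IsFP G := QCohLib.isFP_of_isCoh G hG
  let fj : B.D.obj φ ⟶ A'.D.obj φ.left := pullback.snd N.p (A'.D.map φ.hom)
  haveI : LocallyOfFinitePresentation fj := MorphismProperty.pullback_snd _ _ N.lfp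
  let q₀ : X ⟶ B.D.obj φ := eY.hom ≫ B.c.π.app φ
  have sq₀ : IsPullback q₀ f fj (A'.c.π.app φ.left) := by
    refine (isPullback_cone (ofStage A'.D A'.c A'.hc i) N.p φ).of_iso eY.symm (Iso.refl _) e.symm (Iso.refl _)
      ?_ ?_ ?_ ?_
    · exact (Category.comp_id _).trans (Iso.inv_hom_id_assoc _ _).symm
    · have h1 : eY.hom ≫ pullback.snd N.p (A'.c.π.app i) = f ≫ e.hom := N.sq.isoPullback_hom_snd
      exact (Iso.eq_inv_comp eY).mpr ((Category.assoc _ _ _).symm.trans ((Iso.comp_inv_eq e).mpr h1))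
    · simp [fj]; rfl
    · exact (Category.comp_id _).trans (Iso.inv_hom_id_assoc _ _).symm
  let M₂ := N₂.push (φ.hom ≫ a₂)
  haveI := M₂.lfp
  haveI := M₂.qc
  haveI := M₂.qs
  let gj : M₂.Z ⟶ A'.D.obj φ.left := M₂.p
  haveI : LocallyOfFiniteType gj := inferInstanceAs (LocallyOfFiniteType M₂.p)
  let Z := ofStage A'.D A'.c A'.hc φ.left
  have sq₂ : IsPullback M₂.g g gj (A'.c.π.app φ.left) := by
    have key : ∀ g' : Y ⟶ Spec (CommRingCat.of A), g' = g → IsPullback M₂.g g' gj (A'.c.π.app φ.left) →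
        IsPullback M₂.g g gj (A'.c.π.app φ.left) := by
      rintro _ rfl h
      exact h
    exact key _ (Category.comp_id g) M₂.sq
  let eX : X ≅ pullback fj Z.s := sq₀.isoPullback
  let eY₂ : Y ≅ pullback gj Z.s := sq₂.isoPullback
  have hX₁ : eX.hom ≫ pullback.fst fj Z.s = q₀ := sq₀.isoPullback_hom_fst
  have hX₂ : eX.hom ≫ pullback.snd fj Z.s = f := sq₀.isoPullback_hom_snd
  have hY₂ : eY₂.hom ≫ pullback.snd gj Z.s = g := sq₂.isoPullback_hom_snd
  have eM : F ≅ (Scheme.Modules.pullback eX.hom).obj ((Scheme.Modules.pullback (pullback.fst fj Z.s)).obj G) :=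
    eG.symm ≪≫ (Scheme.Modules.pullbackCongr hX₁.symm).app G ≪≫ ((Scheme.Modules.pullbackComp _ _).app G).symm
  haveI : IsProper (pullback.snd gj Z.s) := by
    rw [show pullback.snd gj Z.s = eY₂.inv ≫ g from (Iso.eq_inv_comp eY₂).2 hY₂]
    exact MorphismProperty.comp_mem _ _ _ inferInstance ‹IsProper g›
  let P := pullback (pullback.snd fj gj) (pullback.fst gj Z.s)
  let pX : P ⟶ X := bcFst fj gj Z.s ≫ eX.inv
  let pY : P ⟶ Y := pullback.snd _ _ ≫ eY₂.inv
  have hP : IsPullback pX pY f g :=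
    (isPullback_bcFst fj gj Z.s).of_iso (Iso.refl _) eX.symm eY₂.symm e.symm (by simp [pX]) (by simp [pY])
      ((Category.comp_id _).trans ((Iso.eq_inv_comp eX).2 hX₂))
      ((Category.comp_id _).trans ((Iso.eq_inv_comp eY₂).2 hY₂))
  obtain ⟨ψ, hψp, hψ⟩ := exists_stage Z fj gj G hGfp (eX.hom x) fun z hz => by
    have hzx : pullback.fst f g (hP.isoPullback.hom z) = x := by
      rw [← Scheme.Hom.comp_apply, IsPullback.isoPullback_hom_fst, Scheme.Hom.comp_apply, hz,
        ← Scheme.Hom.comp_apply, eX.hom_inv_id]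
      rfl
    refine (RichLib.ModFlat.isFlatOverAt_congr hP.isoPullback.hom eY₂.inv
      (by rw [IsPullback.isoPullback_hom_snd]) ?_ z).2 (hflat _ hzx)
    exact pbIso (bcFst_fst fj gj Z.s).symm G ≪≫ ((Scheme.Modules.pullbackComp _ _).app G).symm ≪≫
      (Scheme.Modules.pullback (bcFst fj gj Z.s)).mapIso
        (pbIso (show eX.inv ≫ eX.hom ≫ pullback.fst fj Z.s = pullback.fst fj Z.s from
          Iso.inv_hom_id_assoc _ _) G).symm ≪≫
      (Scheme.Modules.pullback (bcFst fj gj Z.s)).mapIso ((Scheme.Modules.pullback eX.inv).mapIso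
        (((Scheme.Modules.pullbackComp _ _).app G).symm ≪≫ eM.symm)) ≪≫
      (Scheme.Modules.pullbackComp _ _).app F ≪≫ (pbIso hP.isoPullback_hom_fst F).symm
  let fψ := pullback.snd fj (Z.t ψ)
  let gψ := pullback.snd gj (Z.t ψ)
  let R : Type u := ↥ψ.left.unop.1
  haveI : IsNoetherianRing R := by
    haveI : Algebra.FiniteType (ULift.{u} ℤ) R := ⟨(Subalgebra.fg_top _).mpr ψ.left.unop.2⟩
    haveI : IsNoetherianRing (ULift.{u} ℤ) := isNoetherianRing_of_ringEquiv ℤ ULift.ringEquiv.symm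
    exact Algebra.FiniteType.isNoetherianRing (ULift.{u} ℤ) R
  let f' : pullback fj (Z.t ψ) ⟶ Spec (CommRingCat.of R) := fψ
  let g' : pullback gj (Z.t ψ) ⟶ Spec (CommRingCat.of R) := gψ
  letI : (pullback gj (Z.t ψ)).Over (Spec (CommRingCat.of R)) := ⟨g'⟩
  haveI : IsProper (pullback gj (Z.t ψ) ↘ Spec (CommRingCat.of R)) := hψp
  haveI : LocallyOfFinitePresentation f' := MorphismProperty.pullback_snd _ _ ‹LocallyOfFinitePresentation fj›
  have hflat₀ : FlatMod.IsFlatOverAt fψ ((Scheme.Modules.pullback (pullback.fst fj (Z.t ψ))).obj G)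
      (pbπ Z fj ψ (eX.hom x)) := by
    refine flat_of_noetherian (Y := pullback gj (Z.t ψ)) f' _ (isCoh_pullback _ hG) _ (fun b hb => ?_) fun w hw => ?_
    · have hb' : b.1 = 0 := hinj b.1 (by
        have h1 : g ≫ Spec.map (CommRingCat.ofHom ψ.left.unop.1.val.toRingHom) =
            (eY₂.hom ≫ pbπ Z gj ψ) ≫ g' := by
          refine Eq.trans ?_ (((congrArg (eY₂.hom ≫ ·) (pbπ_snd Z gj ψ)).trans
            ((Category.assoc _ _ _).symm.trans (congrArg (· ≫ Z.c.π.app ψ) hY₂))).symm.trans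
            (Category.assoc _ _ _).symm)
          rfl
        have h2 := congrArg (fun k : Y ⟶ Spec (CommRingCat.of R) =>
          k.appTop ((Scheme.ΓSpecIso (CommRingCat.of R)).inv b)) h1
        rw [Scheme.Hom.comp_appTop, Scheme.Hom.comp_appTop] at h2
        have h4 := congr($(Scheme.ΓSpecIso_inv_naturality
          (CommRingCat.ofHom ψ.left.unop.1.val.toRingHom)) b)
        refine (show Coh.toGlobal g b.1 = _ from congrArg g.appTop h4).trans (h2.trans ?_)
        show (eY₂.hom ≫ pbπ Z gj ψ).appTop (g'.appTop ((Scheme.ΓSpecIso (CommRingCat.of R)).inv b)) = 0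
        rw [show g'.appTop ((Scheme.ΓSpecIso (CommRingCat.of R)).inv b) = 0 from hb, map_zero])
      rw [show b = 0 from Subtype.ext hb', map_zero]
    · let hψsq : IsPullback (bcFst fj gj (Z.t ψ)) (pullback.snd (pullback.snd fj gj) (pullback.fst gj (Z.t ψ)))
          f' g' := isPullback_bcFst fj gj (Z.t ψ)
      let w' := hψsq.isoPullback.inv w
      have hw' : bcFst fj gj (Z.t ψ) w' = pbπ Z fj ψ (eX.hom x) := by
        rw [← Scheme.Hom.comp_apply, IsPullback.isoPullback_inv_fst]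
        exact hw
      refine (isFlatOverAt_of_iso hψsq.isoPullback.symm hψsq.isoPullback_inv_snd ?_ w).2 (hψ w' hw')
      exact (Scheme.Modules.pullbackComp _ _).app G ≪≫
        (Scheme.Modules.pullbackCongr ((congrArg (· ≫ pullback.fst fj (Z.t ψ)) hψsq.isoPullback_inv_fst).symm.trans
          ((Category.assoc _ _ _).trans (congrArg (hψsq.isoPullback.inv ≫ ·) (bcFst_fst fj gj (Z.t ψ)))))).app G ≪≫
        ((Scheme.Modules.pullbackComp _ _).app G).symm ≪≫
        (Scheme.Modules.pullback hψsq.isoPullback.inv).mapIso ((Scheme.Modules.pullbackComp _ _).app G).symm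
  have hlim := (RichLib.ModFlat.isFlatOverAt_iso _ (pbIso (pbπ_fst Z fj ψ) G) _).1
    (FDescTensLib.isFlatOverAt_baseChange (isPullback_cone Z fj ψ) _ (eX.hom x) hflat₀)
  exact (RichLib.ModFlat.isFlatOverAt_congr eX.hom (𝟙 _) ((Category.comp_id _).trans hX₂.symm) eM x).2 hlim

end Groth.Agent.ProperFlatLib

end
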