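import Groth.Agent.ProperFlatLib.Limit
import Groth.Agent.AlgSpLib.ReducedStalk
import Groth.Agent.FlatFunShLib.Basic

/-!
# Descent of flatness along an injective proper morphism (EGA IV 11.5.3)
-/

set_option autoImplicit false
set_option backward.isDefEq.respectTransparency false
set_option backward.isDefEq.respectTransparency.types false
set_option maxHeartbeats 1000000
universe u

open CategoryTheory CategoryTheory.Limits AlgebraicGeometry TopologicalSpace

noncomputable section

namespace Groth.Agent.ProperFlatLib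

variable {X Y Y' : Scheme.{u}}

/-- Germs pulled back to a fibre product with a local scheme vanish when the global function does. -/
theorem germ_app_eq_zero (g : Y' ⟶ Y) (y : Y) (a : Y.presheaf.stalk y)
    (ha : (pullback.snd g (Y.fromSpecStalk y)).appTop ((Scheme.ΓSpecIso (Y.presheaf.stalk y)).inv a) = 0)
    {U : Y.Opens} (hyU : y ∈ U) (σ : Γ(Y, U)) (hσ : Y.presheaf.germ U y hyU σ = a) (y' : Y') (hy' : g y' = y) :
    Y'.presheaf.germ (g ⁻¹ᵁ U) y' (show g y' ∈ U from hy'.symm ▸ hyU) (g.app U σ) = 0 := by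
  let s := Y.fromSpecStalk y
  haveI : Flat s := AlgSpLib.flat_fromSpecStalk y
  let g' := pullback.snd g s
  let m := pullback.fst g s
  haveI : Flat m := MorphismProperty.pullback_fst g s ‹_›
  obtain ⟨w, rfl, -⟩ := Scheme.Pullback.exists_preimage_pullback (f := g) (g := s) y' (IsLocalRing.closedPoint _)
    (hy'.trans Scheme.fromSpecStalk_closedPoint.symm)
  have hinj : Function.Injective (m.stalkMap w) :=
    RingHom.FaithfullyFlat.injective (by
      algebraize [(m.stalkMap w).hom]
      haveI : Module.Flat (Y'.presheaf.stalk (m w)) ((pullback g s).presheaf.stalk w) := Flat.stalkMap m w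
      haveI : IsLocalHom (algebraMap (Y'.presheaf.stalk (m w)) ((pullback g s).presheaf.stalk w)) :=
        inferInstanceAs (IsLocalHom (m.stalkMap w).hom)
      exact RingHom.faithfullyFlat_algebraMap_iff.2 Module.FaithfullyFlat.of_flat_of_isLocalHom)
  refine hinj ?_
  rw [map_zero, Scheme.Hom.germ_stalkMap_apply]
  have key : ∀ (k : pullback g s ⟶ Y), k = g' ≫ s → ∀ hk : w ∈ k ⁻¹ᵁ U,
      (pullback g s).presheaf.germ (k ⁻¹ᵁ U) w hk (k.app U σ) = 0 := by
    rintro _ rfl hk
    show (pullback g s).presheaf.germ (g' ⁻¹ᵁ (s ⁻¹ᵁ U)) w hk (g'.app (s ⁻¹ᵁ U) (s.app U σ)) = 0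
    rw [Scheme.fromSpecStalk_app hyU, CommRingCat.comp_apply, CommRingCat.comp_apply, hσ]
    refine (congrArg ((pullback g s).presheaf.germ _ w hk) (QCohLib.app_res g' (le_top : s ⁻¹ᵁ U ≤ ⊤) _)).trans ?_
    refine ((pullback g s).presheaf.germ_res_apply _ w hk _).trans ?_
    exact (congrArg _ ha).trans (map_zero _)
  exact key (m ≫ g) pullback.condition _

/-- The stalk of the base injects into the functions on the base change. -/
theorem eq_zero_of_injective (g : Y' ⟶ Y) [IsProper g] (y : Y)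
    (hinj : ∀ (V : Y.Opens) (s : Γ(Y, V)), y ∈ V → g.app V s = 0 →
      ∃ W : Y.Opens, y ∈ W ∧ ∃ hWV : W ≤ V, Y.presheaf.map (homOfLE hWV).op s = 0)
    (a : Y.presheaf.stalk y)
    (ha : Coh.toGlobal (A := Y.presheaf.stalk y) (pullback.snd g (Y.fromSpecStalk y)) a = 0) : a = 0 := by
  obtain ⟨U, hyU, σ, rfl⟩ := Y.presheaf.exists_germ_eq a
  have hloc : ∀ y' : Y', g y' = y → ∃ (O : Y'.Opens) (hle : O ≤ g ⁻¹ᵁ U), y' ∈ O ∧
      Y'.presheaf.map (homOfLE hle).op (g.app U σ) = 0 := fun y' hy' => by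
    have h := germ_app_eq_zero g y _ ha hyU σ rfl y' hy'
    obtain ⟨O, hO, i₁, i₂, he⟩ := Y'.presheaf.germ_eq y' (show y' ∈ g ⁻¹ᵁ U from show g y' ∈ U from hy'.symm ▸ hyU)
      (show y' ∈ g ⁻¹ᵁ U from show g y' ∈ U from hy'.symm ▸ hyU) (g.app U σ) 0 (h.trans (map_zero _).symm)
    exact ⟨O, leOfHom i₁, hO, (congrArg (fun i => Y'.presheaf.map i (g.app U σ)) (Subsingleton.elim _ _)).trans
      (he.trans (map_zero _))⟩
  choose O hle hO h0 using hloc
  let W : Y'.Opens := ⨆ y' : {y' : Y' // g y' = y}, O y' y'.2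
  let C : Set Y := g '' (W : Set Y')ᶜ
  have hC : IsClosed C := g.isClosedMap _ W.2.isClosed_compl
  let V : Y.Opens := U ⊓ ⟨Cᶜ, hC.isOpen_compl⟩
  have hyV : y ∈ V := ⟨hyU, fun ⟨y', hy', he⟩ => hy' (Opens.mem_iSup.2 ⟨⟨y', he⟩, hO y' he⟩)⟩
  let τ : Γ(Y, V) := Y.presheaf.map (homOfLE (inf_le_left : V ≤ U)).op σ
  have hτ : g.app V τ = 0 := by
    refine TopCat.Sheaf.eq_of_locally_eq' Y'.sheaf (fun y' : {y' : Y' // g y' = y} => g ⁻¹ᵁ V ⊓ O y' y'.2) _
      (fun y' => homOfLE inf_le_left) ?_ _ _ fun y' => ?_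
    · intro z hz
      have hzW : z ∈ W := by
        by_contra hne
        exact hz.2 ⟨z, hne, rfl⟩
      obtain ⟨y', hy'⟩ := Opens.mem_iSup.1 hzW
      exact Opens.mem_iSup.2 ⟨y', hz, hy'⟩
    · refine Eq.trans ?_ (map_zero _).symm
      refine (congrArg (Y'.presheaf.map (homOfLE (inf_le_left : g ⁻¹ᵁ V ⊓ O y' y'.2 ≤ g ⁻¹ᵁ V)).op)
        (QCohLib.app_res g (inf_le_left : V ≤ U) σ)).trans ?_
      rw [← CommRingCat.comp_apply, ← Functor.map_comp]
      have h := congrArg (Y'.presheaf.map (homOfLE (inf_le_right : g ⁻¹ᵁ V ⊓ O y' y'.2 ≤ O y' y'.2)).op) (h0 y' y'.2)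
      rw [map_zero, ← CommRingCat.comp_apply, ← Functor.map_comp] at h
      exact (congrArg (fun i => Y'.presheaf.map i (g.app U σ)) (Subsingleton.elim _ _)).trans h
  obtain ⟨W', hyW', hW'V, hW'⟩ := hinj V τ hyV hτ
  have h1 := congrArg (Y.presheaf.germ W' y hyW') hW'
  rw [Y.presheaf.germ_res_apply, map_zero] at h1
  exact ((Y.presheaf.germ_res_apply (homOfLE (inf_le_left : V ≤ U)) y hyV σ).symm).trans h1

/-- **Descent of flatness along an injective proper morphism.** -/
theorem flat_descent (f : X ⟶ Y) [LocallyOfFinitePresentation f] (F : X.Modules) [Coh.IsQCoh F]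
    (hF : CohB1.IsFP F) (x : X) (g : Y' ⟶ Y) [IsProper g] [LocallyOfFinitePresentation g]
    (hinj : ∀ (V : Y.Opens) (s : Γ(Y, V)), f x ∈ V → g.app V s = 0 →
      ∃ W : Y.Opens, f x ∈ W ∧ ∃ hWV : W ≤ V, Y.presheaf.map (homOfLE hWV).op s = 0)
    (hflat : ∀ x' : ↥(pullback f g), pullback.fst f g x' = x →
      FlatMod.IsFlatOverAt (pullback.snd f g) ((Scheme.Modules.pullback (pullback.fst f g)).obj F) x') :
    FlatMod.IsFlatOverAt f F x := by
  let A : Type u := Y.presheaf.stalk (f x)
  let s : Spec (CommRingCat.of A) ⟶ Y := Y.fromSpecStalk (f x)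
  haveI : Flat s := AlgSpLib.flat_fromSpecStalk (f x)
  obtain ⟨xA, hxA, -⟩ := Scheme.Pullback.exists_preimage_pullback (f := f) (g := s) x (IsLocalRing.closedPoint A)
    Scheme.fromSpecStalk_closedPoint.symm
  let fA := pullback.snd f s
  let m := pullback.fst f s
  haveI : Flat m := MorphismProperty.pullback_fst f s ‹_›
  haveI : LocallyOfFinitePresentation fA := MorphismProperty.pullback_snd f s ‹_›
  let gA := pullback.snd g s
  haveI : LocallyOfFinitePresentation gA := MorphismProperty.pullback_snd g s ‹_›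
  haveI : IsProper gA := MorphismProperty.pullback_snd g s ‹_›
  obtain ⟨V, hV, hxV, -⟩ := exists_isAffineOpen_mem_and_subset (x := xA) (U := ⊤) trivial
  haveI : IsAffine V.toScheme := hV
  let fV := V.ι ≫ fA
  let FA := (Scheme.Modules.pullback m).obj F
  haveI : Coh.IsQCoh FA := KFlatLib.isQCoh_pullback _ F
  let FV := (Scheme.Modules.pullback V.ι).obj FA
  haveI : Coh.IsQCoh FV := KFlatLib.isQCoh_pullback _ FA
  haveI : IsAffineHom fV := isAffineHom_of_isAffine _
  haveI : LocallyOfFinitePresentation fV := MorphismProperty.comp_mem _ _ _ inferInstance ‹_›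
  let xV : V.toScheme := ⟨xA, hxV⟩
  have h : FlatMod.IsFlatOverAt fV FV xV := by
    refine flat_of_injective fV FV (RichLib.ModFlat.isFP_pullback _ (RichLib.ModFlat.isFP_pullback _ hF)) xV gA
      (eq_zero_of_injective g (f x) hinj) fun z hz => ?_
    let r : pullback fA gA ⟶ pullback f g :=
      pullback.lift (pullback.fst fA gA ≫ m) (pullback.snd fA gA ≫ pullback.fst g s)
        (by rw [Category.assoc, pullback.condition, ← Category.assoc, pullback.condition, Category.assoc,
          Category.assoc, pullback.condition])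
    have sq : IsPullback r (pullback.snd fA gA) (pullback.snd f g) (pullback.fst g s) := by
      refine IsPullback.of_right ?_ (pullback.lift_snd _ _ _) (IsPullback.of_hasPullback f g)
      rw [pullback.lift_fst]
      have h1 := (IsPullback.of_hasPullback fA gA).paste_horiz (IsPullback.of_hasPullback f s)
      rwa [← pullback.condition] at h1
    let j : pullback fV gA ⟶ pullback fA gA :=
      pullback.lift (pullback.fst fV gA ≫ V.ι) (pullback.snd fV gA) (by rw [Category.assoc, pullback.condition])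
    have sqj : IsPullback j (pullback.fst fV gA) (pullback.fst fA gA) V.ι :=
      IsPullback.of_right (by rw [pullback.lift_snd]; exact (IsPullback.of_hasPullback fV gA).flip)
        (pullback.lift_fst _ _ _) (IsPullback.of_hasPullback fA gA).flip
    haveI : IsOpenImmersion j := MorphismProperty.of_isPullback sqj.flip inferInstance
    have hzx : pullback.fst f g (r (j z)) = x := by
      rw [← Scheme.Hom.comp_apply, ← Scheme.Hom.comp_apply, pullback.lift_fst,
        ← Category.assoc, pullback.lift_fst, Scheme.Hom.comp_apply, Scheme.Hom.comp_apply, hz]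
      exact hxA
    have h2 := (RichLib.ModFlat.isFlatOverAt_iso _
      (pbIso (pullback.lift_fst _ _ _ : r ≫ pullback.fst f g = _) F ≪≫
        ((Scheme.Modules.pullbackComp (pullback.fst fA gA) m).app F).symm) _).1
      (FDescTensLib.isFlatOverAt_baseChange sq _ (j z) (hflat _ hzx))
    refine (RichLib.ModFlat.isFlatOverAt_congr j (𝟙 _) ((Category.comp_id _).trans (pullback.lift_snd _ _ _).symm)
      ?_ z).2 h2
    exact (Scheme.Modules.pullbackComp _ _).app FA ≪≫
      (Scheme.Modules.pullbackCongr (pullback.lift_fst _ _ _).symm).app FA ≪≫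
      ((Scheme.Modules.pullbackComp _ _).app FA).symm
  have hA : FlatMod.IsFlatOverAt fA FA xA := (RichLib.ModFlat.isFlatOverAt_comp_source V.ι fA FA xV).1 h
  rw [← hxA]
  exact FlatFunShLib.isFlatOverAt_of_pullback pullback.condition F xA hA

end Groth.Agent.ProperFlatLib

end
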