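import Groth.Agent.ProperFlatLib.Krull
import Groth.Agent.S4857
import Groth.Agent.TorsH1Lib.Trunc
import Groth.Agent.FDescTensLib.Basic
import Groth.Agent.QCohLib.QcqsSections
import Groth.Agent.FormalLib.Main

/-!
# Descent of flatness along an injective proper morphism, over a Noetherian base (EGA IV 11.5.3)
-/

set_option autoImplicit false
set_option backward.isDefEq.respectTransparency false
set_option backward.isDefEq.respectTransparency.types false
set_option maxHeartbeats 1000000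
universe u

open CategoryTheory CategoryTheory.Limits AlgebraicGeometry TopologicalSpace IsLocalRing
open Groth.Agent.TorsH1Lib (germA mp HC)

noncomputable section

namespace Groth.Agent.ProperFlatLib

variable {R : Type u} [CommRing R] {Y : Scheme.{u}} [Y.Over (Spec (CommRingCat.of R))]

local notation "gY" => Y ↘ Spec (CommRingCat.of R)

/-- An element of the base, in a local ring of the base. -/
def germS (p : ↥(Spec (CommRingCat.of R))) : R →+* (Spec (CommRingCat.of R)).presheaf.stalk p :=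
  ((Spec (CommRingCat.of R)).presheaf.germ ⊤ p trivial).hom.comp (Scheme.ΓSpecIso (CommRingCat.of R)).inv.hom

theorem stalkMap_germS (y : Y) (a : R) : (gY).stalkMap y (germS (gY y) a) = germA R y a :=
  Scheme.Hom.germ_stalkMap_apply gY ⊤ y trivial _

theorem germS_specializes {p q : ↥(Spec (CommRingCat.of R))} (h : q ⤳ p) (a : R) :
    (Spec (CommRingCat.of R)).presheaf.stalkSpecializes h (germS p a) = germS q a :=
  congr($((Spec (CommRingCat.of R)).presheaf.germ_stalkSpecializes (U := ⊤) trivial h)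
    ((Scheme.ΓSpecIso (CommRingCat.of R)).inv a))

theorem exists_frac (p : ↥(Spec (CommRingCat.of R))) (b : (Spec (CommRingCat.of R)).presheaf.stalk p) :
    ∃ a s : R, IsUnit (germS p s) ∧ b * germS p s = germS p a := by
  let S := Spec (CommRingCat.of R)
  have hT : IsAffineOpen (⊤ : S.Opens) := isAffineOpen_top _
  letI := S.presheaf.algebra_section_stalk (⟨p, trivial⟩ : (⊤ : S.Opens))
  haveI := hT.isLocalization_stalk (⟨p, trivial⟩ : (⊤ : S.Opens))
  obtain ⟨⟨a', s'⟩, he⟩ := IsLocalization.surj (hT.primeIdealOf ⟨p, trivial⟩).asIdeal.primeCompl b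
  let e := Scheme.ΓSpecIso (CommRingCat.of R)
  have h1 : ∀ z : Γ(S, ⊤), germS p (e.hom z) = S.presheaf.germ ⊤ p trivial z := fun z =>
    congrArg (fun t : Γ(S, ⊤) => S.presheaf.germ ⊤ p trivial t) (e.hom_inv_id_apply z)
  refine ⟨e.hom a', e.hom (s' : Γ(S, ⊤)), ?_, ?_⟩
  · rw [h1]
    exact IsLocalization.map_units (S.presheaf.stalk p) s'
  · rw [h1, h1]
    exact he

/-- An open containing a fibre of a closed map contains the preimage of a standard neighbourhood. -/
theorem exists_unit_nhd [IsProper gY] {p : ↥(Spec (CommRingCat.of R))} (W : Y.Opens)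
    (hW : ∀ y : Y, gY y = p → y ∈ W) :
    ∃ t : R, IsUnit (germS p t) ∧ Y.basicOpen (Coh.toGlobal gY t) ≤ W := by
  let S := Spec (CommRingCat.of R)
  let C : Set S := gY '' (W : Set Y)ᶜ
  have hC : IsClosed C := (gY).isClosedMap _ W.2.isClosed_compl
  have hp : p ∈ (⟨Cᶜ, hC.isOpen_compl⟩ : S.Opens) := fun ⟨y, hy, hyp⟩ => hy (hW y hyp)
  obtain ⟨t', hle, hpt⟩ := (isAffineOpen_top S).exists_basicOpen_le (V := ⟨Cᶜ, hC.isOpen_compl⟩) ⟨p, hp⟩ trivial
  let e := Scheme.ΓSpecIso (CommRingCat.of R)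
  have h1 : e.inv (e.hom t') = t' := e.hom_inv_id_apply t'
  refine ⟨e.hom t', ?_, ?_⟩
  · show IsUnit (S.presheaf.germ ⊤ p trivial (e.inv (e.hom t')))
    rw [h1]
    exact (S.mem_basicOpen_top t' p).1 hpt
  · show Y.basicOpen ((gY).appTop (e.inv (e.hom t'))) ≤ W
    rw [h1, ← Scheme.preimage_basicOpen_top]
    intro y hy
    by_contra hne
    exact hle hy ⟨y, hne, rfl⟩

open FormalLib (rhoA Sec) in
/-- Elements lying everywhere in the extension of a power of an ideal die near each point. -/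
theorem exists_nhd_modPow_zero (I : Ideal R) (n : ℕ) (y : Y) (z : Y.presheaf.stalk y)
    (hz : z ∈ (I ^ n).map (germA R y)) :
    ∃ (V : Y.Opens) (hy : y ∈ V) (s : Γ(Y, V)), Y.presheaf.germ V y hy s = z ∧
      (Formal.modPowπ I n (Coh.structureModule Y)).app V (show Γ(Coh.structureModule Y, V) from s) = 0 := by
  let O := Coh.structureModule Y
  let π := Formal.modPowπ I n O
  rw [Ideal.map] at hz
  induction hz using Submodule.span_induction with
  | mem z hz =>
    obtain ⟨b, hb, rfl⟩ := hz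
    refine ⟨⊤, trivial, rhoA R ⊤ b, TorsH1Lib.germ_rhoA (U := ⊤) b trivial, ?_⟩
    have h := congrArg (fun φ : O ⟶ _ => φ.app ⊤ (show Γ(O, ⊤) from (1 : Γ(Y, ⊤))))
      (FormalLib.smulMod_modPowπ O I n hb)
    refine Eq.trans (congrArg (fun t => π.app ⊤ t) ?_) h
    exact (mul_one (show Γ(Y, ⊤) from rhoA R ⊤ b)).symm
  | zero => exact ⟨⊤, trivial, 0, map_zero _, map_zero _⟩
  | add z₁ z₂ _ _ h₁ h₂ =>
    obtain ⟨V₁, hy₁, s₁, rfl, hs₁⟩ := h₁
    obtain ⟨V₂, hy₂, s₂, rfl, hs₂⟩ := h₂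
    let i₁ : V₁ ⊓ V₂ ⟶ V₁ := homOfLE inf_le_left
    let i₂ : V₁ ⊓ V₂ ⟶ V₂ := homOfLE inf_le_right
    refine ⟨V₁ ⊓ V₂, ⟨hy₁, hy₂⟩, Y.presheaf.map i₁.op s₁ + Y.presheaf.map i₂.op s₂, ?_, ?_⟩
    · rw [map_add, Y.presheaf.germ_res_apply i₁ y ⟨hy₁, hy₂⟩ s₁, Y.presheaf.germ_res_apply i₂ y ⟨hy₁, hy₂⟩ s₂]
    · have k₁ : π.app (V₁ ⊓ V₂) (O.presheaf.map i₁.op (show Γ(O, V₁) from s₁)) = 0 := by
        rw [QCohLib.app_map, hs₁, map_zero]
      have k₂ : π.app (V₁ ⊓ V₂) (O.presheaf.map i₂.op (show Γ(O, V₂) from s₂)) = 0 := by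
        rw [QCohLib.app_map, hs₂, map_zero]
      exact (map_add (π.app (V₁ ⊓ V₂)).hom _ _).trans ((congrArg₂ (· + ·) k₁ k₂).trans (add_zero 0))
  | smul c z _ h =>
    obtain ⟨V, hy, s, rfl, hs⟩ := h
    obtain ⟨V', hy', c', rfl⟩ := Y.presheaf.exists_germ_eq c
    let i₁ : V' ⊓ V ⟶ V' := homOfLE inf_le_left
    let i₂ : V' ⊓ V ⟶ V := homOfLE inf_le_right
    refine ⟨V' ⊓ V, ⟨hy', hy⟩, Y.presheaf.map i₁.op c' * Y.presheaf.map i₂.op s, ?_, ?_⟩
    · rw [map_mul, Y.presheaf.germ_res_apply i₁ y ⟨hy', hy⟩ c', Y.presheaf.germ_res_apply i₂ y ⟨hy', hy⟩ s]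
      rfl
    · have k₂ : π.app (V' ⊓ V) (O.presheaf.map i₂.op (show Γ(O, V) from s)) = 0 := by
        rw [QCohLib.app_map, hs, map_zero]
      refine (QCohLib.app_smul π (V' ⊓ V) (Y.presheaf.map i₁.op c') (O.presheaf.map i₂.op (show Γ(O, V) from s))).trans ?_
      rw [k₂, smul_zero]

/-- Elements lying in the extension of a high power of the prime along the fibre lie in a high power. -/
theorem exists_bound [IsNoetherianRing R] [IsProper gY] (p : ↥(Spec (CommRingCat.of R)))
    (hinj : ∀ a : R, Coh.toGlobal gY a = 0 → germS p a = 0) (N : ℕ) :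
    ∃ n : ℕ, ∀ a : R, (∀ y : Y, gY y = p → germA R y a ∈ ((p : PrimeSpectrum R).asIdeal ^ n).map (germA R y)) →
      germS p a ∈ ((p : PrimeSpectrum R).asIdeal ^ N).map (germS p) := by
  let P : Ideal R := (p : PrimeSpectrum R).asIdeal
  let O := Coh.structureModule Y
  haveI : IsLocallyNoetherian Y := LocallyOfFiniteType.isLocallyNoetherian gY
  haveI : CompactSpace Y := QuasiCompact.compactSpace_of_compactSpace gY
  have hO : Coh.IsCoh O := DevissLib.isCoh_structureModule Y
  haveI := hO.1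
  haveI : Module.Finite R (HC O 0) := FormalLib.finite_HH O hO 0
  let one : HC O 0 := (DegPullLib.e0 O).symm (show Γ(O, ⊤) from (1 : Γ(Y, ⊤)))
  let η : R →ₗ[R] HC O 0 := LinearMap.toSpanSingleton R (HC O 0) one
  have hη : ∀ a : R, DegPullLib.e0 O (η a) = (show Γ(O, ⊤) from Coh.toGlobal gY a) := fun a =>
    (DegPullLib.e0_smul O (Coh.toGlobal gY a) one).trans
      ((congrArg (fun t : Γ(O, ⊤) => (show Γ(Y, ⊤) from Coh.toGlobal gY a) • t)
        (AddEquiv.apply_symm_apply (DegPullLib.e0 O) _)).trans (mul_one (Coh.toGlobal gY a)))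
  obtain ⟨c, hc⟩ := FormalLib.exists_ker_bound (A := R) P (M := O) hO 0
  obtain ⟨k, hk⟩ := P.exists_pow_inf_eq_pow_smul (LinearMap.range η)
  refine ⟨N + k + c, fun a ha => ?_⟩
  let π := Formal.modPowπ P (N + k + c) O
  haveI : Coh.IsQCoh (Formal.modPow P (N + k + c) O) := FormalLib.isQCoh_modPow O P _
  let σ := π.app ⊤ (show Γ(O, ⊤) from Coh.toGlobal gY a)
  have hloc : ∀ y : Y, gY y = p → ∃ V : Y.Opens, y ∈ V ∧
      (Formal.modPow P (N + k + c) O).presheaf.map (homOfLE (le_top : V ≤ ⊤)).op σ = 0 := fun y hy => by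
    obtain ⟨V, hyV, s, hs, hs0⟩ := exists_nhd_modPow_zero P (N + k + c) y _ (ha y hy)
    obtain ⟨W, hyW, i₁, i₂, hW⟩ := Y.presheaf.germ_eq y (show y ∈ (⊤ : Y.Opens) from trivial) hyV (Coh.toGlobal gY a) s hs.symm
    refine ⟨W, hyW, ?_⟩
    rw [← QCohLib.app_map]
    refine (congrArg (π.app W) (show O.presheaf.map (homOfLE (le_top : W ≤ ⊤)).op (show Γ(O, ⊤) from Coh.toGlobal gY a) =
      O.presheaf.map i₂.op (show Γ(O, V) from s) from hW)).trans ?_
    rw [QCohLib.app_map, hs0, map_zero]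
  choose V hyV hV using hloc
  let W : Y.Opens := ⨆ y : {y : Y // gY y = p}, V y y.2
  obtain ⟨t, ht, htW⟩ := exists_unit_nhd (p := p) W fun y hy =>
    Opens.mem_iSup.2 ⟨⟨y, hy⟩, hyV y hy⟩
  have hσ : (Formal.modPow P (N + k + c) O).presheaf.map
      (homOfLE (inf_le_left : (⊤ : Y.Opens) ⊓ Y.basicOpen (Coh.toGlobal gY t) ≤ ⊤)).op σ = 0 := by
    refine TopCat.Sheaf.eq_of_locally_eq' ((QCohLib.toAbF Y).obj (Formal.modPow P (N + k + c) O) : TopCat.Sheaf AddCommGrpCat _)
      (fun y : {y : Y // gY y = p} => ((⊤ : Y.Opens) ⊓ Y.basicOpen (Coh.toGlobal gY t)) ⊓ V y y.2) _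
      (fun y => homOfLE inf_le_left) ?_ _ _ fun y => ?_
    · intro z hz
      obtain ⟨y, hy⟩ := Opens.mem_iSup.1 (htW hz.2)
      exact Opens.mem_iSup.2 ⟨y, hz, hy⟩
    · refine (QCohLib.map_map' _ _ _ _).trans (Eq.trans ?_ (map_zero _).symm)
      have h := congrArg ((Formal.modPow P (N + k + c) O).presheaf.map
        (homOfLE (inf_le_right : ((⊤ : Y.Opens) ⊓ Y.basicOpen (Coh.toGlobal gY t)) ⊓ V y y.2 ≤ V y y.2)).op) (hV y y.2)
      rw [map_zero] at h
      exact ((congrArg (fun i => (Formal.modPow P (N + k + c) O).presheaf.map i σ) (Subsingleton.elim _ _)).trans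
        (QCohLib.map_map' _ _ _ _).symm).trans h
  obtain ⟨e, he⟩ := QCohLib.exists_pow_smul_eq_zero (Coh.toGlobal gY t) ⊤ (by
    rw [Opens.coe_top]; exact isCompact_univ) le_rfl σ hσ
  have hres : Y.presheaf.map (homOfLE (le_rfl : (⊤ : Y.Opens) ≤ ⊤)).op (Coh.toGlobal gY t) = Coh.toGlobal gY t :=
    congrArg (fun i => Y.presheaf.map i (Coh.toGlobal gY t)) (Subsingleton.elim _ (𝟙 _)) |>.trans
      (congr($(Y.presheaf.map_id _) (Coh.toGlobal gY t)))
  rw [hres] at he
  have hker : FormalLib.hMapA (A := R) π 0 (η (t ^ e * a)) = 0 := by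
    apply (DegPullLib.e0 _).injective
    rw [map_zero]
    refine (TorsH1Lib.e0_mp (R := R) π _).trans ((congrArg (fun z => π.app ⊤ z) (hη _)).trans ?_)
    refine Eq.trans ?_ he
    refine Eq.trans ?_ (QCohLib.app_smul π ⊤ ((Coh.toGlobal gY t) ^ e) (show Γ(O, ⊤) from Coh.toGlobal gY a))
    refine congrArg (fun z => π.app ⊤ z) ?_
    exact (map_mul (Coh.toGlobal gY) _ _).trans (congrArg (· * Coh.toGlobal gY a) (map_pow _ _ _))
  have hmem : η (t ^ e * a) ∈ P ^ (N + k) • (⊤ : Submodule R (HC O 0)) ⊓ LinearMap.range η :=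
    ⟨hc (N + k) _ hker, ⟨_, rfl⟩⟩
  rw [hk (N + k) (Nat.le_add_left k N), Nat.add_sub_cancel] at hmem
  obtain ⟨b, hb, hbe⟩ : η (t ^ e * a) ∈ Submodule.map η (P ^ N) := by
    refine (Submodule.smul_le.2 fun r hr x hx => ?_) hmem
    obtain ⟨b, rfl⟩ := hx.2
    exact ⟨r * b, Ideal.mul_mem_right _ _ hr, by rw [← smul_eq_mul, map_smul]⟩
  have h0 : germS p (t ^ e * a - b) = 0 := hinj _ (by
    have h1 := congrArg (DegPullLib.e0 O) (show η (t ^ e * a - b) = 0 by rw [map_sub, hbe, sub_self])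
    rw [hη, map_zero] at h1
    exact h1)
  rw [map_sub, sub_eq_zero, map_mul, map_pow] at h0
  have hu : IsUnit (germS p t ^ e) := ht.pow e
  exact (Ideal.unit_mul_mem_iff_mem _ hu).1 (h0 ▸ Ideal.mem_map_of_mem _ hb)

/-- **Descent of flatness along an injective proper morphism, Noetherian base.** -/
theorem flat_of_noetherian [IsNoetherianRing R] [IsProper gY] {X : Scheme.{u}} (f : X ⟶ Spec (CommRingCat.of R))
    [LocallyOfFiniteType f] (F : X.Modules) (hF : Coh.IsCoh F) (x : X)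
    (hinj : ∀ a : R, Coh.toGlobal gY a = 0 → germS (f x) a = 0)
    (hflat : ∀ z : ↥(pullback f gY), pullback.fst f gY z = x →
      FlatMod.IsFlatOverAt (pullback.snd f gY) ((Scheme.Modules.pullback (pullback.fst f gY)).obj F) z) :
    FlatMod.IsFlatOverAt f F x := by
  haveI : IsLocallyNoetherian Y := LocallyOfFiniteType.isLocallyNoetherian gY
  let S := Spec (CommRingCat.of R)
  let ι := {y : Y // gY y = f x}
  let φ : ∀ y : ι, (S.presheaf.stalk (f x) : Type u) →+* Y.presheaf.stalk y.1 := fun y =>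
    ((S.presheaf.stalkSpecializes (specializes_of_eq y.2)) ≫ (gY).stalkMap y.1).hom
  have hφ : ∀ (y : ι) (a : R), φ y (germS (f x) a) = germA R y.1 a := fun y a => by
    show (gY).stalkMap y.1 (S.presheaf.stalkSpecializes _ (germS (f x) a)) = _
    rw [germS_specializes, stalkMap_germS]
  haveI : ∀ y : ι, IsLocalHom (φ y) := fun y => by
    haveI : IsLocalHom (S.presheaf.stalkSpecializes (specializes_of_eq y.2)).hom := by
      have : IsIso (S.presheaf.stalkSpecializes (specializes_of_eq y.2)) := by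
        refine ⟨S.presheaf.stalkSpecializes (specializes_of_eq y.2.symm), ?_, ?_⟩ <;>
          rw [TopCat.Presheaf.stalkSpecializes_comp, TopCat.Presheaf.stalkSpecializes_refl]
      infer_instance
    show IsLocalHom (RingHom.comp ((gY).stalkMap y.1).hom (S.presheaf.stalkSpecializes (specializes_of_eq y.2)).hom)
    exact RingHom.isLocalHom_comp _ _
  have hPm : ((f x : PrimeSpectrum R).asIdeal).map (germS (f x)) ≤ maximalIdeal (S.presheaf.stalk (f x)) := by
    refine Ideal.map_le_iff_le_comap.2 fun a ha => ?_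
    rw [Ideal.mem_comap, mem_maximalIdeal, mem_nonunits_iff]
    intro hu
    have h : f x ∈ S.basicOpen ((Scheme.ΓSpecIso (CommRingCat.of R)).inv a) := (S.mem_basicOpen_top _ (f x)).2 hu
    rw [basicOpen_eq_of_affine] at h
    exact h ha
  refine Groth.Agent.S4857.result f F hF x (fun y : ι => Y.presheaf.stalk y.1) φ (fun N => ?_) ?_
  · obtain ⟨n, hn⟩ := exists_bound (f x) hinj N
    obtain ⟨s, hs⟩ := exists_finset (fun y : ι => Y.presheaf.stalk y.1) φ n
    refine ⟨s, fun b hb => ?_⟩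
    obtain ⟨a, t, ht, hbt⟩ := exists_frac (f x) b
    refine (Ideal.mul_unit_mem_iff_mem _ ht).1 ?_
    rw [hbt]
    refine (Ideal.map_pow (germS (f x)) _ N).le.trans (Ideal.pow_right_mono hPm N) (hn a fun y hy => ?_)
    have h1 := hs b hb ⟨y, hy⟩
    have hsub : ∀ m : ℕ, (maximalIdeal (S.presheaf.stalk (f x)) ^ m).map (φ ⟨y, hy⟩) ≤
        ((f x : PrimeSpectrum R).asIdeal ^ m).map (germA R y) := fun m => by
      rw [Ideal.map_pow, Ideal.map_pow]
      refine Ideal.pow_right_mono (Ideal.map_le_iff_le_comap.2 fun w hw => ?_) m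
      obtain ⟨w₁, w₂, hw₂, hw₁⟩ := exists_frac (f x) w
      rw [Ideal.mem_comap]
      refine (Ideal.mul_unit_mem_iff_mem _ (hw₂.map (φ ⟨y, hy⟩))).1 ?_
      rw [← map_mul, hw₁, hφ]
      refine Ideal.mem_map_of_mem _ ?_
      by_contra hne
      have hb' : f x ∈ S.basicOpen ((Scheme.ΓSpecIso (CommRingCat.of R)).inv w₁) := by
        rw [basicOpen_eq_of_affine]
        exact hne
      have hu : IsUnit (germS (f x) w₁) := (S.mem_basicOpen_top _ (f x)).1 hb'
      rw [← hw₁] at hu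
      exact hw (isUnit_of_mul_isUnit_left hu)
    rw [← hφ ⟨y, hy⟩, ← hbt, map_mul]
    exact Ideal.mul_mem_right _ _ (hsub n h1)
  · intro y z hz _
    let i := Y.fromSpecStalk y.1
    have hi : Spec.map (CommRingCat.ofHom (φ y)) ≫ S.fromSpecStalk (f x) = i ≫ gY := by
      rw [CommRingCat.ofHom_hom, Spec.map_comp, Category.assoc, Scheme.SpecMap_stalkSpecializes_fromSpecStalk,
        Scheme.SpecMap_stalkMap_fromSpecStalk]
    let T := Spec.map (CommRingCat.ofHom (φ y)) ≫ S.fromSpecStalk (f x)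
    let r : pullback f T ⟶ pullback f gY :=
      pullback.lift (pullback.fst f T) (pullback.snd f T ≫ i)
        (by rw [pullback.condition, Category.assoc, ← hi])
    have sq : IsPullback r (pullback.snd f T) (pullback.snd f gY) i := by
      refine IsPullback.of_right ?_ (pullback.lift_snd _ _ _) (IsPullback.of_hasPullback f gY)
      rw [pullback.lift_fst, ← hi]
      exact IsPullback.of_hasPullback f T
    have hr : pullback.fst f gY (r z) = x := by
      rw [← Scheme.Hom.comp_apply, pullback.lift_fst]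
      exact hz
    exact (RichLib.ModFlat.isFlatOverAt_iso _ ((Scheme.Modules.pullbackComp r (pullback.fst f gY)).app F ≪≫
      (Scheme.Modules.pullbackCongr (pullback.lift_fst _ _ _)).app F) z).1
      (FDescTensLib.isFlatOverAt_baseChange sq _ z (hflat _ hr))

end Groth.Agent.ProperFlatLib

end
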